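import Cfsg.Agent.Lib.Helper5.HNBack.Count

/-! # Steps of a chain of stabilizers, with orbits given as sets or as short lists -/

set_option autoImplicit false

noncomputable section

namespace Cfsg.Agent.Lib.Helper5.HNBack

open Cfsg.Agent.Lib.Helper6.TC Cfsg.Agent.Lib.Helper6.NatArr Cfsg.Agent.Lib.Helper6.Simp
  Cfsg.Agent.Lib.Helper6.SimpG

/-- **the step**: the number of points reached from the new base point times the order of the next
stabilizer is at most the order of the stabilizer -/
theorem card_pstab_ge_set {T : Tab} {Γ : Subgroup (Equiv.Perm (Fin T.n))} {fixed : List ℕ} {b : ℕ}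
    (hb : b < T.n) (X : Set (Fin T.n))
    (hreach : ∀ k ∈ X, ∃ σ ∈ pstab T Γ fixed, σ ⟨b, hb⟩ = k) :
    X.ncard * Nat.card (pstab T Γ (b :: fixed)) ≤ Nat.card (pstab T Γ fixed) := by
  classical
  set b' : Fin T.n := ⟨b, hb⟩ with hb'
  have hch : ∀ k : {k : Fin T.n // k ∈ X}, ∃ σ ∈ pstab T Γ fixed, σ b' = k.1 :=
    fun k => hreach k.1 k.2
  choose u hu hub using hch
  have hle : pstab T Γ (b :: fixed) ≤ pstab T Γ fixed := by
    intro σ hσ
    exact ⟨hσ.1, fun c hc hcn => hσ.2 c (List.mem_cons_of_mem _ hc) hcn⟩
  have hfixb : ∀ σ ∈ pstab T Γ (b :: fixed), σ b' = b' := by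
    intro σ hσ
    exact hσ.2 b (List.mem_cons_self ..) hb
  let f : {k : Fin T.n // k ∈ X} × pstab T Γ (b :: fixed) → pstab T Γ fixed := fun x =>
    ⟨u x.1 * x.2.1, (pstab T Γ fixed).mul_mem (hu x.1) (hle x.2.2)⟩
  have hf : Function.Injective f := by
    rintro ⟨k, s⟩ ⟨k', s'⟩ hkk
    have hval : u k * s.1 = u k' * s'.1 := congrArg Subtype.val hkk
    have hk : k = k' := by
      apply Subtype.ext
      have := congrArg (fun σ : Equiv.Perm (Fin T.n) => σ b') hval
      simp only [Equiv.Perm.mul_apply] at this
      rw [hfixb s.1 s.2, hfixb s'.1 s'.2, hub, hub] at this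
      exact this
    subst hk
    have hs : s.1 = s'.1 := mul_left_cancel hval
    rw [Subtype.ext hs]
  have hcard := Nat.card_le_card_of_injective f hf
  rw [Nat.card_prod] at hcard
  have hcnt : Nat.card {k : Fin T.n // k ∈ X} = X.ncard := Nat.card_coe_set_eq X
  rw [hcnt] at hcard
  exact hcard

/-! ### short orbits, as lists -/

/-- the entries of a list of numbers are distinct -/
def nodupB : List ℕ → Bool
  | [] => true
  | a :: l => !(l.any (Nat.beq a)) && nodupB l

theorem nodup_of_nodupB : ∀ l : List ℕ, nodupB l = true → l.Nodup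
  | [], _ => List.nodup_nil
  | a :: l, h => by
    simp only [nodupB, Bool.and_eq_true, Bool.not_eq_true'] at h
    rw [List.nodup_cons]
    refine ⟨fun hm => ?_, nodup_of_nodupB l h.2⟩
    have : l.any (Nat.beq a) = true := List.any_eq_true.2 ⟨a, hm, Nat.beq_refl a⟩
    rw [h.1] at this
    exact Bool.false_ne_true this

/-- replay a list of steps: the step `16 * p + j` adds the image of the row `p`, which is in the
list already, under the word number `j` -/
def listOrb (T : Tab) (ws : List (List ℕ)) : List ℕ → List ℕ → Option (List ℕ)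
  | [], rows => some rows
  | x :: I, rows =>
    force (Nat.div x 16) fun p =>
    force (Nat.mod x 16) fun j =>
    bif rows.any (Nat.beq p) && Nat.blt j ws.length then
      force (T.trace p (ws.getD j [])) fun r => listOrb T ws I (r :: rows)
    else none

/-- the replay gives a list of `m` distinct rows -/
def listOrbOK (T : Tab) (ws : List (List ℕ)) (I : List ℕ) (b m : ℕ) : Bool :=
  match listOrb T ws I [b] with
  | none => false
  | some rows => nodupB rows && Nat.beq rows.length m

theorem listOrb_sound {T : Tab} {ws : List (List ℕ)} {Q : ℕ → Prop}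
    (hstep : ∀ p w r, w ∈ ws → Q p → T.trace p w = r → Q r) :
    ∀ (I rows rows' : List ℕ), listOrb T ws I rows = some rows' → (∀ r ∈ rows, Q r) →
      ∀ r ∈ rows', Q r := by
  intro I
  induction I with
  | nil =>
    intro rows rows' h hQ
    simp only [listOrb, Option.some.injEq] at h
    subst h
    exact hQ
  | cons x I ih =>
    intro rows rows' h hQ
    simp only [listOrb, force_eq] at h
    cases hc : (rows.any (Nat.beq (Nat.div x 16)) && Nat.blt (Nat.mod x 16) ws.length)
    · rw [hc] at h
      simp at h
    · rw [hc, cond_true] at h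
      simp only [Bool.and_eq_true, Nat.blt_eq] at hc
      obtain ⟨p, hp, hpe⟩ := List.any_eq_true.1 hc.1
      have hpe' : Nat.div x 16 = p := Nat.eq_of_beq_eq_true hpe
      have hmem : ws.getD (Nat.mod x 16) [] ∈ ws := by
        rw [List.getD_eq_getElem _ _ hc.2]
        exact List.getElem_mem hc.2
      refine ih _ _ h ?_
      intro r hr
      rcases List.mem_cons.1 hr with rfl | hr
      · exact hstep _ _ _ hmem (by rw [hpe']; exact hQ p hp) rfl
      · exact hQ r hr

theorem listOrbOK_sound {T : Tab} {ws : List (List ℕ)} {I : List ℕ} {b m : ℕ}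
    (h : listOrbOK T ws I b m = true) {Q : ℕ → Prop}
    (hstep : ∀ p w r, w ∈ ws → Q p → T.trace p w = r → Q r) (hb : Q b) :
    ∃ rows : List ℕ, rows.Nodup ∧ rows.length = m ∧ ∀ r ∈ rows, Q r := by
  unfold listOrbOK at h
  cases hr : listOrb T ws I [b] with
  | none => rw [hr] at h; exact absurd h (by simp)
  | some rows =>
    rw [hr] at h
    simp only [Bool.and_eq_true] at h
    refine ⟨rows, nodup_of_nodupB rows h.1, Nat.eq_of_beq_eq_true h.2, ?_⟩
    refine listOrb_sound hstep I [b] rows hr ?_
    intro r hr'
    rw [List.mem_singleton] at hr'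
    subst hr'
    exact hb

/-- the number of the elements of `Fin n` whose values are the entries of a list of distinct
numbers below `n` -/
theorem ncard_of_list {n : ℕ} (rows : List ℕ) (hnd : rows.Nodup) (hlt : ∀ r ∈ rows, r < n) :
    {k : Fin n | k.val ∈ rows}.ncard = rows.length := by
  classical
  have himg : (Fin.val '' {k : Fin n | k.val ∈ rows}) = ↑rows.toFinset := by
    ext r
    simp only [Set.mem_image, Set.mem_setOf_eq, Finset.mem_coe, List.mem_toFinset]
    constructor
    · rintro ⟨k, hk, rfl⟩
      exact hk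
    · intro hr
      exact ⟨⟨r, hlt r hr⟩, hr, rfl⟩
  rw [← Set.ncard_image_of_injective _ Fin.val_injective, himg, Set.ncard_coe_finset,
    List.toFinset_card_of_nodup hnd]

end Cfsg.Agent.Lib.Helper5.HNBack

end
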