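import Cfsg.Agent.Lib.Helper5.HNBack.Reach

/-! # Counting the rows of an orbit, in chunks -/

set_option autoImplicit false

namespace Cfsg.Agent.Lib.Helper5.HNBack

open Cfsg.Agent.Lib.Helper6.TC Cfsg.Agent.Lib.Helper6.NatArr

/-- the number of the numbers `lo, …, lo + k - 1` at which the test holds -/
def cntF (f : ℕ → Bool) (lo : ℕ) : ℕ → ℕ
  | 0 => 0
  | k + 1 => bif f (Nat.add lo k) then Nat.succ (cntF f lo k) else cntF f lo k

theorem cntF_add (f : ℕ → Bool) (lo a : ℕ) : ∀ b, cntF f lo (a + b) = cntF f lo a + cntF f (lo + a) b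
  | 0 => by simp [cntF]
  | b + 1 => by
    have e : a + (b + 1) = (a + b) + 1 := by omega
    rw [e, cntF, cntF, cntF_add f lo a b]
    have e2 : Nat.add lo (a + b) = Nat.add (lo + a) b := by
      show lo + (a + b) = lo + a + b
      omega
    rw [e2]
    cases f (Nat.add (lo + a) b)
    · simp
    · simp only [cond_true]
      omega

/-- the count of a range that is cut into chunks of the same length -/
theorem cntF_of_chunks (f : ℕ → Bool) (L : ℕ) : ∀ (cs : List ℕ) (lo : ℕ),
    (∀ k (hk : k < cs.length), cntF f (lo + k * L) L = cs[k]) → cntF f lo (cs.length * L) = cs.sum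
  | [], lo, _ => by simp [cntF]
  | c :: cs, lo, h => by
    have e : (c :: cs).length * L = L + cs.length * L := by
      rw [List.length_cons]
      ring
    rw [e, cntF_add, List.sum_cons]
    have h0 := h 0 (by simp)
    simp only [Nat.zero_mul, Nat.add_zero, List.getElem_cons_zero] at h0
    rw [h0]
    congr 1
    apply cntF_of_chunks f L cs (lo + L)
    intro k hk
    have h1 := h (k + 1) (by simp; omega)
    simp only [List.getElem_cons_succ] at h1
    rw [← h1]
    congr 1
    ring

theorem card_filter_cntF (f : ℕ → Bool) : ∀ n : ℕ,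
    ((Finset.range n).filter fun k => f k = true).card = cntF f 0 n
  | 0 => by simp [cntF]
  | n + 1 => by
    rw [Finset.range_add_one, Finset.filter_insert, cntF]
    have e : Nat.add 0 n = n := Nat.zero_add n
    rw [e]
    by_cases h : f n = true
    · rw [if_pos h, h, cond_true, Finset.card_insert_of_notMem (by simp), card_filter_cntF f n]
    · rw [if_neg h]
      have : f n = false := by simpa using h
      rw [this, cond_false, card_filter_cntF f n]

/-- the number of the elements of `Fin n` at which the test holds -/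
theorem ncard_cntF (f : ℕ → Bool) (n : ℕ) : {b : Fin n | f b.val = true}.ncard = cntF f 0 n := by
  rw [← card_filter_cntF f n]
  have : {b : Fin n | f b.val = true} =
      ↑((Finset.univ : Finset (Fin n)).filter fun b => f b.val = true) := by
    ext b; simp
  rw [this, Set.ncard_coe_finset]
  apply Finset.card_bij (fun b _ => b.val)
  · intro b hb
    simp only [Finset.mem_filter, Finset.mem_univ, true_and] at hb
    simp [hb]
  · intro b _ b' _ h
    exact Fin.ext h
  · intro k hk
    simp only [Finset.mem_filter, Finset.mem_range] at hk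
    exact ⟨⟨k, hk.1⟩, by simp [hk.2], rfl⟩

/-- the test for the rows of an orbit -/
noncomputable def inOrb (C : BT) (i : ℕ) (r : ℕ) : Bool := Nat.beq (orbOf C r) i

theorem inOrb_iff (C : BT) (i r : ℕ) : inOrb C i r = true ↔ orbOf C r = i := by
  unfold inOrb
  constructor
  · exact Nat.eq_of_beq_eq_true
  · intro h
    rw [h]
    exact Nat.beq_refl i

/-! ### counting leaf by leaf -/

theorem entry_leaf (t : BT) (w q e : ℕ) (he : e < 1024) :
    t.entry w (1024 * q + e) = aget w (t.get q) e := by
  unfold BT.entry
  rw [force_eq]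
  have h1 : Nat.shiftRight (1024 * q + e) 10 = q := by
    show (1024 * q + e) >>> 10 = q
    rw [Nat.shiftRight_eq_div_pow]
    omega
  have h2 : Nat.land (1024 * q + e) 1023 = e := by
    have := Nat.and_two_pow_sub_one_eq_mod (1024 * q + e) 10
    show (1024 * q + e) &&& 1023 = e
    have e' : (2 : ℕ) ^ 10 - 1 = 1023 := by norm_num
    rw [e'] at this
    rw [this]
    omega
  rw [h1, h2]

/-- the number of the entries `0, …, k - 1` of a leaf with the given orbit number -/
def cntLeaf (L i : ℕ) : ℕ → ℕ
  | 0 => 0
  | k + 1 => bif Nat.beq (Nat.shiftRight (aget 16 L k) 12) i then Nat.succ (cntLeaf L i k)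
      else cntLeaf L i k

theorem cntLeaf_eq (C : BT) (q i : ℕ) : ∀ k, k ≤ 1024 →
    cntLeaf (C.get q) i k = cntF (inOrb C i) (1024 * q) k
  | 0, _ => rfl
  | k + 1, hk => by
    rw [cntLeaf, cntF, cntLeaf_eq C q i k (by omega)]
    have e : inOrb C i (Nat.add (1024 * q) k) =
        Nat.beq (Nat.shiftRight (aget 16 (C.get q) k) 12) i := by
      unfold inOrb orbOf
      show Nat.beq (Nat.shiftRight (C.entry 16 (1024 * q + k)) 12) i = _
      rw [entry_leaf C 16 q k (by omega)]
    rw [e]

/-- the number of the rows with the given orbit number in the leaves `q0, …, q0 + m - 1` -/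
noncomputable def cntLeaves (C : BT) (i q0 : ℕ) : ℕ → ℕ
  | 0 => 0
  | m + 1 => Nat.add (cntLeaves C i q0 m) (force (C.get (Nat.add q0 m)) fun L => cntLeaf L i 1024)

theorem cntLeaves_eq (C : BT) (i q0 : ℕ) : ∀ m,
    cntLeaves C i q0 m = cntF (inOrb C i) (1024 * q0) (1024 * m)
  | 0 => rfl
  | m + 1 => by
    rw [cntLeaves, force_eq, cntLeaves_eq C i q0 m, cntLeaf_eq C _ i 1024 le_rfl]
    have e1 : 1024 * (m + 1) = 1024 * m + 1024 := by ring
    rw [e1, cntF_add]
    have e2 : 1024 * Nat.add q0 m = 1024 * q0 + 1024 * m := by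
      show 1024 * (q0 + m) = _
      ring
    rw [e2]
    rfl

end Cfsg.Agent.Lib.Helper5.HNBack
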