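import Cfsg.Agent.Lib.Helper5.HNBack.Order

/-! # The back end: from a checked coset table, the orbits of the subgroup on the rows and a
chain of stabilizers, the presented group is simple of the expected order -/

set_option autoImplicit false

noncomputable section

namespace Cfsg.Agent.Lib.Helper5.HNBack

open Cfsg.Agent.Lib.Helper6.TC Cfsg.Agent.Lib.Helper6.TCG Cfsg.Agent.Lib.Helper6.NatArr
  Cfsg.Agent.Lib.Helper6.Simp Cfsg.Agent.Lib.Helper6.SimpG Cfsg.Spor

variable {α : Type} [DecidableEq α] {edges : List (α × ℕ × α)} {extra : List (FreeGroup α)}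
  {S : Set (FreeGroup α)} (D : GenData edges extra S)

/-- **simplicity and order** -/
theorem simple_card_of_back {N : ℕ}
    (hub : Finite (CoxPresented α edges extra) ∧ Nat.card (CoxPresented α edges extra) ≤ N)
    {ivl rootsN : ℕ} {C : BT} (hivl : ivlOK D.T.g D.ivs D.subW ivl = true)
    (h : reachOK D.T ivl rootsN C = true) (h0 : orbOf C 0 = 0)
    (hroots : aget 24 rootsN 0 = 1) {r : ℕ} (hlen : rootsN < 2 ^ (24 * (r + 1))) (s : Fin r → ℕ)
    (hs : ∀ i : Fin r, cntF (inOrb C (i.val + 1)) 0 D.T.n = s i)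
    (harith : ∀ I : Finset (Fin r), I.Nonempty → (1 + ∑ i ∈ I, s i) ∣ D.T.n →
      1 + ∑ i ∈ I, s i = D.T.n)
    (k : Fin r) {b1 : ℕ} (hb1e : aget 24 rootsN (k.val + 1) = b1 + 1) (hb1 : b1 < D.T.n)
    {ws2 : List (List ℕ)} {I2 : List ℕ} {b2 m2 : ℕ} (hb2 : b2 < D.T.n)
    (hfix2 : fixOK D.T ws2 [b1, 0] = true) (horb2 : listOrbOK D.T ws2 I2 b2 m2 = true)
    (hN : D.T.n * (s k * m2) = N) (hNpos : 0 < N)
    {us : List (List ℕ)} {p : ℕ} (hg : genOK D.T us p [b2, b1, 0] = true)
    (hcop : (N / D.T.n).Coprime p) (hn : 1 < D.T.n) :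
    IsSimpleGroup (CoxPresented α edges extra) ∧ Nat.card (CoxPresented α edges extra) = N := by
  have hfin : Finite (CoxPresented α edges extra) := hub.1
  obtain ⟨hcard, hinj, htriv⟩ :=
    card_of_chain D hub hivl h hb1e hb1 (hs k) hb2 hfix2 horb2 hN hNpos
  refine ⟨?_, hcard⟩
  refine simple_of_reach D hinj hivl h h0 hroots hlen s hs harith p ?_
    (closure_pow_eq_top D hinj htriv hg) hn
  rw [hcard]
  exact hcop

/-- the upper bound for the order, from the index and the order of the subgroup -/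
theorem card_le_of_index {G : Type*} [Group G] (H : Subgroup G) [Finite H] {n M : ℕ}
    (hidx : H.index = n) (hn : 0 < n) (hM : Nat.card H ≤ M) : Finite G ∧ Nat.card G ≤ n * M := by
  have hfi : H.FiniteIndex := ⟨by rw [hidx]; omega⟩
  have hfin : Finite G := (Subgroup.finite_iff_finite_and_finiteIndex (H := H)).2 ⟨inferInstance, hfi⟩
  refine ⟨hfin, ?_⟩
  rw [← H.card_mul_index, hidx, Nat.mul_comm]
  exact Nat.mul_le_mul_left _ hM

end Cfsg.Agent.Lib.Helper5.HNBack

end
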