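import Cfsg.Agent.Lib.Helper5.HNBack.Chain

/-! # The orbits of the subgroup on the rows, from the parent pointers; simplicity -/

set_option autoImplicit false

noncomputable section

namespace Cfsg.Agent.Lib.Helper5.HNBack

open Cfsg.Agent.Lib.Helper6.TC Cfsg.Agent.Lib.Helper6.TCG Cfsg.Agent.Lib.Helper6.NatArr
  Cfsg.Agent.Lib.Helper6.Simp Cfsg.Agent.Lib.Helper6.SimpG Cfsg.Spor

variable {α : Type} [DecidableEq α] {edges : List (α × ℕ × α)} {extra : List (FreeGroup α)}
  {S : Set (FreeGroup α)} (D : GenData edges extra S)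

/-- the letters that lead to the parents belong to the words of the subgroup -/
abbrev ivlSub (ivl : ℕ) : Prop := ivlOK D.T.g D.ivs D.subW ivl = true

/-- every row is the image of the root of its orbit under an element of the subgroup -/
theorem reach_sub {ivl rootsN : ℕ} {C : BT} (hivl : ivlSub D ivl)
    (h : reachOK D.T ivl rootsN C = true) {r : ℕ} (hr : r < D.T.n) :
    ∃ (hlt : rootAt rootsN (orbOf C r) < D.T.n),
      aget 24 rootsN (orbOf C r) = rootAt rootsN (orbOf C r) + 1 ∧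
      ∃ g ∈ D.H, (D.ρ g ⟨rootAt rootsN (orbOf C r), hlt⟩).val = r := by
  refine reach_sound D.chk_tab hivl h (Q := fun i r => ∃ (hlt : rootAt rootsN i < D.T.n),
      aget 24 rootsN i = rootAt rootsN i + 1 ∧
      ∃ g ∈ D.H, (D.ρ g ⟨rootAt rootsN i, hlt⟩).val = r) ?_ ?_ r hr
  · intro i hlt he
    exact ⟨hlt, he, 1, D.H.one_mem, by simp⟩
  · rintro i p w r hw _ ⟨hlt, he, g, hg, rfl⟩ htr
    obtain ⟨hl, s, hs, hsw⟩ := OrbG.sub_mem (D := D) hw
    rw [trace_eq D.chk_tab w _ hl] at htr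
    refine ⟨hlt, he, s⁻¹ * g, D.H.mul_mem (D.H.inv_mem hs) hg, ?_⟩
    rw [map_mul, map_inv, hsw, inv_inv, Equiv.Perm.mul_apply]
    exact htr

/-- two rows of the same orbit are joined by an element of the subgroup -/
theorem conn_sub {ivl rootsN : ℕ} {C : BT} (hivl : ivlSub D ivl)
    (h : reachOK D.T ivl rootsN C = true) {b c : Fin D.T.n}
    (hbc : orbOf C b.val = orbOf C c.val) : ∃ g ∈ D.H, D.ρ g b = c := by
  obtain ⟨hlt1, _, g1, hg1, e1⟩ := reach_sub D hivl h b.isLt
  obtain ⟨hlt2, _, g2, hg2, e2⟩ := reach_sub D hivl h c.isLt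
  refine ⟨g2 * g1⁻¹, D.H.mul_mem hg2 (D.H.inv_mem hg1), ?_⟩
  have e1' : D.ρ g1 ⟨rootAt rootsN (orbOf C b.val), hlt1⟩ = b := Fin.ext e1
  have e2' : D.ρ g2 ⟨rootAt rootsN (orbOf C c.val), hlt2⟩ = c := Fin.ext e2
  have e3 : (⟨rootAt rootsN (orbOf C b.val), hlt1⟩ : Fin D.T.n) =
      ⟨rootAt rootsN (orbOf C c.val), hlt2⟩ := by
    apply Fin.ext
    simp only [hbc]
  rw [map_mul, map_inv, Equiv.Perm.mul_apply, ← e1', perm_inv_apply_self, e3, e2']

theorem aget_eq_zero_of_lt {w t i : ℕ} (h : t < 2 ^ (w * i)) : aget w t i = 0 := by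
  rw [aget_eq, Nat.div_eq_of_lt h, Nat.zero_mod]

/-- **simplicity**, with the orbits of the subgroup given by the codes of the rows -/
theorem simple_of_reach [Finite (CoxPresented α edges extra)] (hinj : Function.Injective D.ρ)
    {ivl rootsN : ℕ} {C : BT} (hivl : ivlSub D ivl)
    (h : reachOK D.T ivl rootsN C = true) (h0 : orbOf C 0 = 0)
    (hroots : aget 24 rootsN 0 = 1) {r : ℕ} (hlen : rootsN < 2 ^ (24 * (r + 1))) (s : Fin r → ℕ)
    (hs : ∀ i : Fin r, cntF (inOrb C (i.val + 1)) 0 D.T.n = s i)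
    (harith : ∀ I : Finset (Fin r), I.Nonempty → (1 + ∑ i ∈ I, s i) ∣ D.T.n →
      1 + ∑ i ∈ I, s i = D.T.n)
    (p : ℕ) (hcop : (Nat.card (CoxPresented α edges extra) / D.T.n).Coprime p)
    (hgen : Subgroup.closure {g : CoxPresented α edges extra | g ^ p = 1} = ⊤)
    (hn : 1 < D.T.n) : IsSimpleGroup (CoxPresented α edges extra) := by
  refine isSimpleGroup_of_conn D.ρ hinj D.o D.trans D.H D.fix
    (fun i : Fin r => {b : Fin D.T.n | orbOf C b.val = i.val + 1}) ?_ ?_ ?_ ?_ s ?_ harith p hcop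
    hgen hn
  · intro i b hb c hc
    exact conn_sub D hivl h (hb.trans hc.symm)
  · intro b
    obtain ⟨hlt, he, g, hg, e⟩ := reach_sub D hivl h b.isLt
    by_cases hb0 : orbOf C b.val = 0
    · left
      have hr0 : rootAt rootsN (orbOf C b.val) = 0 := by
        rw [hb0]
        unfold rootAt
        rw [hroots]
        rfl
      have e2 : (⟨rootAt rootsN (orbOf C b.val), hlt⟩ : Fin D.T.n) = D.o := Fin.ext hr0
      rw [e2, D.fix g hg] at e
      exact Fin.ext e.symm
    · right
      have h1 : orbOf C b.val < r + 1 := by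
        by_contra hcon
        have h2 : rootsN < 2 ^ (24 * orbOf C b.val) :=
          lt_of_lt_of_le hlen (Nat.pow_le_pow_right (by norm_num) (by
            have : r + 1 ≤ orbOf C b.val := by omega
            exact Nat.mul_le_mul_left 24 this))
        rw [aget_eq_zero_of_lt h2] at he
        omega
      refine ⟨⟨orbOf C b.val - 1, by omega⟩, ?_⟩
      show orbOf C b.val = orbOf C b.val - 1 + 1
      omega
  · intro i j hij b hbi hbj
    apply hij
    apply Fin.ext
    have h1 : orbOf C b.val = i.val + 1 := hbi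
    have h2 : orbOf C b.val = j.val + 1 := hbj
    omega
  · intro i hi
    have h1 : orbOf C (D.o : Fin D.T.n).val = i.val + 1 := hi
    have h2 : (D.o : Fin D.T.n).val = 0 := rfl
    rw [h2, h0] at h1
    omega
  · intro i
    rw [← hs i, ← ncard_cntF]
    congr 1
    ext b
    exact (inOrb_iff C (i.val + 1) b.val).symm

end Cfsg.Agent.Lib.Helper5.HNBack

end
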