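import Cfsg.Agent.Lib.Helper5.HNBack.Orbits

/-! # The order of the group, by a chain of three stabilizers; powers of words that are checked
on the base points only; the main theorem of the back end -/

set_option autoImplicit false

noncomputable section

namespace Cfsg.Agent.Lib.Helper5.HNBack

open Cfsg.Agent.Lib.Helper6.TC Cfsg.Agent.Lib.Helper6.TCG Cfsg.Agent.Lib.Helper6.NatArr
  Cfsg.Agent.Lib.Helper6.Simp Cfsg.Agent.Lib.Helper6.SimpG Cfsg.Spor

/-- the words have letters below `g` and fix the rows of the list -/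
def fixOK (T : Tab) (ws : List (List ℕ)) (base : List ℕ) : Bool :=
  ws.all fun w => (w.all fun x => Nat.blt x T.g) && base.all fun c => Nat.beq (T.trace c w) c

theorem fixOK_spec {T : Tab} {ws : List (List ℕ)} {base : List ℕ} (h : fixOK T ws base = true)
    {w : List ℕ} (hw : w ∈ ws) : (∀ x ∈ w, x < T.g) ∧ ∀ c ∈ base, T.trace c w = c := by
  have h1 := List.all_eq_true.1 h w hw
  rw [Bool.and_eq_true] at h1
  refine ⟨fun x hx => ?_, fun c hc => ?_⟩
  · have := List.all_eq_true.1 h1.1 x hx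
    rwa [Nat.blt_eq] at this
  · exact Nat.eq_of_beq_eq_true (List.all_eq_true.1 h1.2 c hc)

/-- the power of the word has letters below `g` and fixes the rows of the list -/
def powOK (T : Tab) (w : List ℕ) (p : ℕ) (base : List ℕ) : Bool :=
  (w.all fun x => Nat.blt x T.g) &&
    base.all fun c => Nat.beq (T.trace c (List.replicate p w).flatten) c

/-- for every letter `x` there is a word `u` such that the powers of `u` and of `x :: u` fix the
rows of the list -/
def genOK (T : Tab) (us : List (List ℕ)) (p : ℕ) (base : List ℕ) : Bool :=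
  allBelow T.g fun x => powOK T (us.getD x []) p base && powOK T (x :: us.getD x []) p base

theorem prod_flatten_replicate {M : Type*} [Monoid M] (P : ℕ → M) (u : List ℕ) : ∀ k : ℕ,
    (((List.replicate k u).flatten).map P).prod = ((u.map P).prod) ^ k
  | 0 => by simp
  | k + 1 => by
    rw [List.replicate_succ, List.flatten_cons, List.map_append, List.prod_append,
      prod_flatten_replicate P u k, pow_succ']

variable {α : Type} [DecidableEq α] {edges : List (α × ℕ × α)} {extra : List (FreeGroup α)}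
  {S : Set (FreeGroup α)} (D : GenData edges extra S)

theorem P_mem_range : ∀ x, x < D.T.g → D.P x ∈ D.ρ.range := by
  intro x hx
  rw [D.hTg] at hx
  refine ⟨(D.γ x)⁻¹, ?_⟩
  rw [map_inv, ρ_γ D hx, inv_inv]

/-- the permutation of a word that fixes the rows of a list lies in their stabilizer -/
theorem eltP_mem_pstab {w : List ℕ} {base : List ℕ} (hl : ∀ x ∈ w, x < D.T.g)
    (hfix : ∀ c ∈ base, D.T.trace c w = c) : eltP D.P w ∈ pstab D.T D.ρ.range base := by
  refine ⟨eltP_mem D.P (P_mem_range D) hl, fun c hc hcn => ?_⟩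
  apply Fin.ext
  have : D.T.trace c w = (((w.reverse.map D.P).prod) ⟨c, hcn⟩).val :=
    trace_eq D.chk_tab w ⟨c, hcn⟩ hl
  unfold eltP
  rw [← this]
  exact hfix c hc

/-- a word whose power fixes the base points has trivial power in the group, if the stabilizer
of the base points is trivial -/
theorem wordG_pow_eq_one_of_base (hinj : Function.Injective D.ρ) {base : List ℕ}
    (htriv : ∀ σ ∈ pstab D.T D.ρ.range base, σ = 1) {w : List ℕ} {p : ℕ}
    (hw : powOK D.T w p base = true) : (Cfsg.Agent.Lib.Helper6.SimpG.wordG D w) ^ p = 1 := by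
  unfold powOK at hw
  rw [Bool.and_eq_true] at hw
  have hl : ∀ x ∈ w, x < D.T.g := by
    intro x hx
    have := List.all_eq_true.1 hw.1 x hx
    rwa [Nat.blt_eq] at this
  have hl' : ∀ x ∈ (List.replicate p w).flatten, x < D.T.g := by
    intro x hx
    rw [List.mem_flatten] at hx
    obtain ⟨l, hl1, hxl⟩ := hx
    rw [List.eq_of_mem_replicate hl1] at hxl
    exact hl x hxl
  have hfix : ∀ c ∈ base, D.T.trace c (List.replicate p w).flatten = c := fun c hc =>
    Nat.eq_of_beq_eq_true (List.all_eq_true.1 hw.2 c hc)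
  have h1 := htriv _ (eltP_mem_pstab D hl' hfix)
  unfold eltP at h1
  rw [reverse_flatten_replicate, prod_flatten_replicate] at h1
  apply hinj
  rw [map_one, map_pow, ρ_wordG D (fun x hx => by rw [← D.hTg]; exact hl x hx), inv_pow, h1,
    inv_one]

/-- the group is generated by the elements with trivial `p`-th power -/
theorem closure_pow_eq_top (hinj : Function.Injective D.ρ) {base : List ℕ}
    (htriv : ∀ σ ∈ pstab D.T D.ρ.range base, σ = 1) {us : List (List ℕ)} {p : ℕ}
    (hg : genOK D.T us p base = true) :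
    Subgroup.closure {g : CoxPresented α edges extra | g ^ p = 1} = ⊤ := by
  rw [eq_top_iff]
  intro z _
  obtain ⟨u, hu, rfl⟩ := D.γ_gen z
  apply Subgroup.list_prod_mem
  intro y hy
  rw [List.mem_map] at hy
  obtain ⟨x, hx, rfl⟩ := hy
  have hxg : x < D.T.g := by rw [D.hTg]; exact hu x hx
  have h1 := allBelow_spec _ _ hg x hxg
  rw [Bool.and_eq_true] at h1
  have e1 := wordG_pow_eq_one_of_base D hinj htriv h1.1
  have e2 := wordG_pow_eq_one_of_base D hinj htriv h1.2
  have : D.γ x = Cfsg.Agent.Lib.Helper6.SimpG.wordG D (x :: us.getD x []) * (Cfsg.Agent.Lib.Helper6.SimpG.wordG D (us.getD x []))⁻¹ := by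
    unfold Cfsg.Agent.Lib.Helper6.SimpG.wordG
    rw [List.map_cons, List.prod_cons]
    group
  rw [this]
  exact Subgroup.mul_mem _ (Subgroup.subset_closure e2)
    (Subgroup.inv_mem _ (Subgroup.subset_closure e1))

/-- **the order**: a chain of three stabilizers; the second orbit is one of the orbits of the
subgroup, the third one is a short list -/
theorem card_of_chain {N : ℕ}
    (hub : Finite (CoxPresented α edges extra) ∧ Nat.card (CoxPresented α edges extra) ≤ N)
    {ivl rootsN : ℕ} {C : BT} (hivl : ivlSub D ivl)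
    (h : reachOK D.T ivl rootsN C = true) {k b1 : ℕ} (hb1e : aget 24 rootsN k = b1 + 1)
    (hb1 : b1 < D.T.n) {m1 : ℕ} (hm1 : cntF (inOrb C k) 0 D.T.n = m1)
    {ws2 : List (List ℕ)} {I2 : List ℕ} {b2 m2 : ℕ} (hb2 : b2 < D.T.n)
    (hfix2 : fixOK D.T ws2 [b1, 0] = true)
    (horb2 : listOrbOK D.T ws2 I2 b2 m2 = true)
    (hN : D.T.n * (m1 * m2) = N) (hNpos : 0 < N) :
    Nat.card (CoxPresented α edges extra) = N ∧ Function.Injective D.ρ ∧
      ∀ σ ∈ pstab D.T D.ρ.range [b2, b1, 0], σ = 1 := by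
  classical
  obtain ⟨hfin, hle⟩ := hub
  set Γ := D.ρ.range with hΓdef
  -- the first step
  have h0 : D.T.n * Nat.card (pstab D.T Γ [0]) ≤ Nat.card Γ :=
    card_ge_of_transitive (T := D.T) (Γ := Γ) D.hTn (fun a => by
      obtain ⟨z, hz⟩ := D.trans a
      exact ⟨D.ρ z, ⟨z, rfl⟩, hz⟩)
  -- the second step
  have hsub : ∀ w ∈ D.subW, (∀ x ∈ w, x < D.T.g) ∧ eltP D.P w ∈ pstab D.T Γ [0] := by
    intro w hw
    obtain ⟨_, _, h3⟩ := D.sub_spec
    obtain ⟨hl, hf⟩ := h3 w hw
    have hl' : ∀ x ∈ w, x < D.T.g := fun x hx => by rw [D.hTg]; exact hl x hx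
    refine ⟨hl', eltP_mem_pstab D hl' ?_⟩
    intro c hc
    rw [List.mem_singleton] at hc
    subst hc
    exact hf
  have hrk : rootAt rootsN k = b1 := by
    unfold rootAt
    rw [hb1e]
    rfl
  have hreach1 : ∀ b ∈ {b : Fin D.T.n | orbOf C b.val = k},
      ∃ σ ∈ pstab D.T Γ [0], σ ⟨b1, hb1⟩ = b := by
    intro b hb
    have hb' : orbOf C b.val = k := hb
    have key := reach_sound D.chk_tab hivl h (Q := fun i r => ∃ (hlt : rootAt rootsN i < D.T.n),
      ∃ σ ∈ pstab D.T Γ [0], (σ ⟨rootAt rootsN i, hlt⟩).val = r) ?_ ?_ b.val b.isLt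
    · obtain ⟨hlt, σ, hσ, e⟩ := key
      refine ⟨σ, hσ, ?_⟩
      apply Fin.ext
      rw [← e]
      simp only [hb', hrk]
    · intro i hlt _
      exact ⟨hlt, 1, (pstab D.T Γ [0]).one_mem, rfl⟩
    · rintro i p w r hw _ ⟨hlt, σ, hσ, rfl⟩ htr
      obtain ⟨hl, hmem⟩ := hsub w hw
      refine ⟨hlt, eltP D.P w * σ, (pstab D.T Γ [0]).mul_mem hmem hσ, ?_⟩
      rw [Equiv.Perm.mul_apply]
      have : D.T.trace (σ ⟨rootAt rootsN i, hlt⟩).val w =
          (((w.reverse.map D.P).prod) (σ ⟨rootAt rootsN i, hlt⟩)).val := trace_eq D.chk_tab w _ hl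
      unfold eltP
      rw [← this]
      exact htr
  have h1 := card_pstab_ge_set (Γ := Γ) (fixed := [0]) hb1 _ hreach1
  have hX1 : {b : Fin D.T.n | orbOf C b.val = k}.ncard = m1 := by
    rw [← hm1, ← ncard_cntF]
    congr 1
    ext b
    exact (inOrb_iff C k b.val).symm
  rw [hX1] at h1
  -- the third step
  obtain ⟨rows, hnd, hlen, hrows⟩ := listOrbOK_sound horb2
    (Q := fun r => ∃ σ ∈ pstab D.T Γ [b1, 0], (σ ⟨b2, hb2⟩).val = r) (by
      rintro p w r hw ⟨σ, hσ, rfl⟩ htr
      obtain ⟨hl, hf⟩ := fixOK_spec hfix2 hw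
      refine ⟨eltP D.P w * σ, (pstab D.T Γ [b1, 0]).mul_mem (eltP_mem_pstab D hl hf) hσ, ?_⟩
      rw [Equiv.Perm.mul_apply]
      have : D.T.trace (σ ⟨b2, hb2⟩).val w =
          (((w.reverse.map D.P).prod) (σ ⟨b2, hb2⟩)).val := trace_eq D.chk_tab w _ hl
      unfold eltP
      rw [← this]
      exact htr) ⟨1, (pstab D.T Γ [b1, 0]).one_mem, rfl⟩
  have hreach2 : ∀ b ∈ {b : Fin D.T.n | b.val ∈ rows},
      ∃ σ ∈ pstab D.T Γ [b1, 0], σ ⟨b2, hb2⟩ = b := by
    intro b hb
    obtain ⟨σ, hσ, e⟩ := hrows b.val hb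
    exact ⟨σ, hσ, Fin.ext e⟩
  have h2 := card_pstab_ge_set (Γ := Γ) (fixed := [b1, 0]) hb2 _ hreach2
  have hX2 : {b : Fin D.T.n | b.val ∈ rows}.ncard = m2 := by
    rw [← hlen]
    apply ncard_of_list rows hnd
    intro r hr
    obtain ⟨σ, _, e⟩ := hrows r hr
    rw [← e]
    exact (σ ⟨b2, hb2⟩).isLt
  rw [hX2] at h2
  -- the bounds
  set c3 := Nat.card (pstab D.T Γ [b2, b1, 0]) with hc3
  have hc3pos : 0 < c3 := Nat.card_pos
  have hsurj : Function.Surjective D.ρ.rangeRestrict := D.ρ.rangeRestrict_surjective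
  have hΓG : Nat.card Γ ≤ Nat.card (CoxPresented α edges extra) :=
    Nat.card_le_card_of_surjective _ hsurj
  have hchain : D.T.n * (m1 * (m2 * c3)) ≤ Nat.card Γ :=
    ((Nat.mul_le_mul_left _ ((Nat.mul_le_mul_left _ h2).trans h1)).trans h0)
  have hNc : N * c3 ≤ N := by
    calc N * c3 = D.T.n * (m1 * (m2 * c3)) := by rw [← hN]; ring
      _ ≤ Nat.card Γ := hchain
      _ ≤ N := hΓG.trans hle
  have hc3one : c3 = 1 := by
    have : c3 ≤ 1 := by
      by_contra hcon
      have h2' : 2 ≤ c3 := by omega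
      have : N * 2 ≤ N * c3 := Nat.mul_le_mul_left _ h2'
      omega
    omega
  have hlow : N ≤ Nat.card Γ := by
    have := hchain
    rw [hc3one, Nat.mul_one, hN] at this
    exact this
  have hbij : Function.Bijective D.ρ.rangeRestrict :=
    hsurj.bijective_of_nat_card_le (hle.trans hlow)
  refine ⟨le_antisymm hle (hlow.trans hΓG), ?_, ?_⟩
  · intro x y hxy
    apply hbij.1
    exact Subtype.ext hxy
  · intro σ hσ
    have hbot : pstab D.T Γ [b2, b1, 0] = ⊥ :=
      Subgroup.eq_bot_of_card_le _ (le_of_eq hc3one)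
    rw [hbot, Subgroup.mem_bot] at hσ
    exact hσ

end Cfsg.Agent.Lib.Helper5.HNBack

end
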