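import Cfsg.Agent.Lib.Helper6.SimpG
import Cfsg.Agent.Lib.Helper6.TCChunk

/-! # Orbits on the rows of a coset table, certified by parent pointers (second form)

Every row carries a code of 16 bits, kept in a tree: the number of its orbit (4 bits), the number of
a letter (4 bits) and a depth (8 bits).  A row of depth `0` is the root of its orbit; any other row
is the image, under a letter of the list `ws`, of the row that the inverse letter takes it to, and
this row has the same orbit number and a depth smaller by one.  That the two letters are inverse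
to each other on the rows is a property of the checked table, so that the check of one row reads
the table once. -/

set_option autoImplicit false

namespace Cfsg.Agent.Lib.Helper5.HNBack

open Cfsg.Agent.Lib.Helper6.TC Cfsg.Agent.Lib.Helper6.TCG Cfsg.Agent.Lib.Helper6.TCGS
  Cfsg.Agent.Lib.Helper6.NatArr

/-- the number of the orbit of a row -/
noncomputable def orbOf (C : BT) (r : ℕ) : ℕ := Nat.shiftRight (C.entry 16 r) 12

/-- the root of an orbit: the list of the roots is packed in a number, 24 bits each, and holds
the roots plus one -/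
def rootAt (rootsN i : ℕ) : ℕ := Nat.pred (aget 24 rootsN i)

/-- the check of one row; `ivl` packs the letters that lead to the parents, 4 bits each -/
noncomputable def rowOK (T : Tab) (ivl rootsN : ℕ) (C : BT) (r : ℕ) : Bool :=
  force (C.entry 16 r) fun c =>
  bif Nat.beq (Nat.land c 255) 0 then Nat.beq (aget 24 rootsN (Nat.shiftRight c 12)) (Nat.succ r)
  else
    Nat.beq (Nat.succ (Nat.land
      (C.entry 16 (T.nxt r (aget 4 ivl (Nat.land (Nat.shiftRight c 8) 15)))) 61695))
      (Nat.land c 61695)

/-- the letters that lead to the parents are letters whose inverses are words of the list -/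
def ivlOK (g ivs : ℕ) (ws : List (List ℕ)) (ivl : ℕ) : Bool :=
  allBelow 16 fun j => Nat.blt (aget 4 ivl j) g && ws.contains [ivN ivs (aget 4 ivl j)]

/-- the check of all the rows -/
noncomputable def reachOK (T : Tab) (ivl rootsN : ℕ) (C : BT) : Bool :=
  allBelow T.n (rowOK T ivl rootsN C)

/-- a part of the check of all the rows -/
noncomputable def reachOKc (T : Tab) (ivl rootsN : ℕ) (C : BT) (lo len : ℕ) : Bool :=
  chunkBelow T.n lo len (rowOK T ivl rootsN C)

theorem reachOK_of_chunks (T : Tab) (ivl rootsN : ℕ) (C : BT) (L K : ℕ)
    (hL : 0 < L) (hn : T.n ≤ K * L)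
    (h : ∀ k < K, reachOKc T ivl rootsN C (Nat.mul k L) L = true) :
    reachOK T ivl rootsN C = true :=
  allBelow_of_chunks L K hL hn h

theorem land_eq_mod_256 (c : ℕ) : Nat.land c 255 = c % 256 :=
  Nat.and_two_pow_sub_one_eq_mod c 8

/-- the two fields that are compared: orbit number and depth -/
theorem fields_of_masked {c c' : ℕ} (h : Nat.succ (Nat.land c' 61695) = Nat.land c 61695) :
    Nat.shiftRight c' 12 % 16 = Nat.shiftRight c 12 % 16 ∧ Nat.land c' 255 < Nat.land c 255 := by
  have e : (61695 : ℕ) = 15 * 4096 + 255 := by norm_num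
  have h1 : ∀ x : ℕ, Nat.land x 61695 = (x / 4096 % 16) * 4096 + x % 256 := by
    intro x
    apply Nat.eq_of_testBit_eq
    intro i
    show (x &&& 61695).testBit i = _
    rw [Nat.testBit_and]
    have hlt : x % 256 < 2 ^ 12 := lt_of_lt_of_le (Nat.mod_lt _ (by norm_num)) (by norm_num)
    have e2 : x / 4096 % 16 * 4096 + x % 256 = 2 ^ 12 * (x / 4096 % 16) + x % 256 := by ring
    rw [e2, Nat.testBit_two_pow_mul_add _ hlt]
    have e3 : (256 : ℕ) = 2 ^ 8 := by norm_num
    have e4 : (4096 : ℕ) = 2 ^ 12 := by norm_num
    have e5 : (16 : ℕ) = 2 ^ 4 := by norm_num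
    by_cases hi : i < 12
    · rw [if_pos hi, e3, Nat.testBit_mod_two_pow]
      by_cases hi8 : i < 8
      · have : (61695 : ℕ).testBit i = true := by interval_cases i <;> decide
        simp [this, hi8]
      · have : (61695 : ℕ).testBit i = false := by
          have : 8 ≤ i := by omega
          interval_cases i <;> decide
        simp [this, hi8]
    · rw [if_neg hi, e4, e5, Nat.testBit_mod_two_pow, Nat.testBit_div_two_pow]
      by_cases hi16 : i < 16
      · have : (61695 : ℕ).testBit i = true := by
          have : 12 ≤ i := by omega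
          interval_cases i <;> decide
        have e6 : i - 12 + 12 = i := by omega
        simp [this, e6, show i - 12 < 4 by omega]
      · have : (61695 : ℕ).testBit i = false := by
          apply Nat.testBit_lt_two_pow
          exact lt_of_lt_of_le (by norm_num : (61695 : ℕ) < 2 ^ 16)
            (Nat.pow_le_pow_right (by norm_num) (by omega))
        simp [this, show ¬ (i - 12 < 4) by omega]
  rw [h1 c', h1 c] at h
  have hs : ∀ x : ℕ, Nat.shiftRight x 12 = x / 4096 := fun x => by
    show x >>> 12 = _
    rw [Nat.shiftRight_eq_div_pow]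
  rw [hs, hs, land_eq_mod_256, land_eq_mod_256]
  have ha := Nat.mod_lt c' (by norm_num : 0 < 256)
  have hb := Nat.mod_lt c (by norm_num : 0 < 256)
  have hc := Nat.mod_lt (c' / 4096) (by norm_num : 0 < 16)
  have hd := Nat.mod_lt (c / 4096) (by norm_num : 0 < 16)
  omega

theorem entry16_lt (C : BT) (r : ℕ) : C.entry 16 r < 65536 := by
  unfold BT.entry
  rw [force_eq]
  exact aget_lt 16 _ _

theorem orbOf_lt (C : BT) (r : ℕ) : orbOf C r < 16 := by
  unfold orbOf
  show (C.entry 16 r) >>> 12 < 16
  rw [Nat.shiftRight_eq_div_pow]
  have := entry16_lt C r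
  omega

/-- **every row is reached from the root of its orbit** -/
theorem reach_sound {T : Tab} {ivs ivl rootsN : ℕ} {ws : List (List ℕ)} {C : BT}
    (htab : tabOK T ivs = true) (hivl : ivlOK T.g ivs ws ivl = true)
    (h : reachOK T ivl rootsN C = true) {Q : ℕ → ℕ → Prop}
    (hroot : ∀ i, rootAt rootsN i < T.n → aget 24 rootsN i = rootAt rootsN i + 1 →
      Q i (rootAt rootsN i))
    (hstep : ∀ i p w r, w ∈ ws → p < T.n → Q i p → T.trace p w = r → Q i r) :
    ∀ r, r < T.n → Q (orbOf C r) r := by
  have key : ∀ d r, r < T.n → Nat.land (C.entry 16 r) 255 = d → Q (orbOf C r) r := by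
    intro d
    induction d using Nat.strong_induction_on with
    | _ d ih =>
      intro r hr hd
      have h1 := allBelow_spec _ _ h r hr
      unfold rowOK at h1
      simp only [force_eq] at h1
      cases hb : Nat.beq (Nat.land (C.entry 16 r) 255) 0
      · rw [hb, cond_false] at h1
        have h2 := Nat.eq_of_beq_eq_true h1
        set x := aget 4 ivl (Nat.land (Nat.shiftRight (C.entry 16 r) 8) 15) with hx
        have hj : Nat.land (Nat.shiftRight (C.entry 16 r) 8) 15 < 16 := by
          show (C.entry 16 r >>> 8) &&& 15 < 16
          exact lt_of_le_of_lt Nat.and_le_right (by norm_num)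
        have h3 := allBelow_spec _ _ hivl _ hj
        rw [Bool.and_eq_true, Nat.blt_eq] at h3
        obtain ⟨hxg, hmem⟩ := h3
        have hmem' : [ivN ivs x] ∈ ws := List.contains_iff_mem.1 hmem
        obtain ⟨hp, hback⟩ := nxt_spec htab hr hxg
        obtain ⟨ho, hdp⟩ := fields_of_masked h2
        have ho' : orbOf C (T.nxt r x) = orbOf C r := by
          have a1 := orbOf_lt C (T.nxt r x)
          have a2 := orbOf_lt C r
          unfold orbOf at a1 a2 ⊢
          rw [Nat.mod_eq_of_lt a1, Nat.mod_eq_of_lt a2] at ho
          exact ho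
        have hQp := ih _ (by rw [← hd]; exact hdp) _ hp rfl
        rw [ho'] at hQp
        refine hstep _ _ _ _ hmem' hp hQp ?_
        show T.trace (T.nxt r x) [ivN ivs x] = r
        unfold Tab.trace Tab.trace
        rw [force_eq]
        exact hback
      · rw [hb, cond_true] at h1
        have h2 := Nat.eq_of_beq_eq_true h1
        have e : rootAt rootsN (orbOf C r) = r := by
          unfold rootAt orbOf
          rw [h2]
          rfl
        have := hroot (orbOf C r) (by rw [e]; exact hr) (by rw [e]; exact h2)
        rw [e] at this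
        exact this
  intro r hr
  exact key _ r hr rfl

end Cfsg.Agent.Lib.Helper5.HNBack
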